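import Groth.Agent.Lib.CIField.Regular
import Groth.Agent.Lib.LCI6.Field
import Groth.Agent.Lib.LCI6.Regular
import Groth.Prelude.Def_RegImm

/-!
# Complete intersections over a field: independence of the presentation
-/

set_option autoImplicit false

universe u

open IsLocalRing RingTheory.Sequence MvPolynomial

namespace GrothLib.CIField

variable {k : Type u} [Field k] {S : Type u} [CommRing S] [IsLocalRing S] [Algebra k S]

/-- Every element is a fraction of values of `α`. -/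
def IsGen {n : ℕ} (α : MvPolynomial (Fin n) k →ₐ[k] S) : Prop :=
  ∀ s : S, ∃ a b : MvPolynomial (Fin n) k, IsUnit (α b) ∧ s * α b = α a

theorem exists_isGen [Algebra.EssFiniteType k S] :
    ∃ (n : ℕ) (α : MvPolynomial (Fin n) k →ₐ[k] S), IsGen α := by
  classical
  obtain ⟨σ, hσ⟩ := (Algebra.essFiniteType_iff k S).mp inferInstance
  let v : Fin σ.card → S := fun i => (σ.equivFin.symm i).1
  have hv : Set.range v = (σ : Set S) := Set.ext fun x =>
    ⟨fun ⟨i, hi⟩ => hi ▸ (σ.equivFin.symm i).2, fun hx => ⟨σ.equivFin ⟨x, hx⟩, by simp [v]⟩⟩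
  refine ⟨σ.card, aeval v, fun s => ?_⟩
  obtain ⟨t, ht, htu, hst⟩ := hσ s
  rw [← hv, Algebra.adjoin_range_eq_range_aeval, AlgHom.mem_range] at ht hst
  obtain ⟨b, rfl⟩ := ht
  obtain ⟨a, ha⟩ := hst
  exact ⟨a, b, htu, ha.symm⟩

/-- The map from the local ring of affine space. -/
noncomputable def locHom {n : ℕ} (α : MvPolynomial (Fin n) k →ₐ[k] S) (p : Ideal (MvPolynomial (Fin n) k))
    [p.IsPrime] (hp : p = (maximalIdeal S).comap α.toRingHom) : Localization.AtPrime p →ₐ[k] S :=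
  IsLocalization.liftAlgHom (M := p.primeCompl) (f := α) (by
    rintro ⟨y, hy⟩
    by_contra h
    exact hy (hp ▸ ((mem_maximalIdeal _).mpr h : α y ∈ maximalIdeal S)))

theorem locHom_algebraMap {n : ℕ} (α : MvPolynomial (Fin n) k →ₐ[k] S) (p : Ideal (MvPolynomial (Fin n) k))
    [p.IsPrime] (hp : p = (maximalIdeal S).comap α.toRingHom) (a : MvPolynomial (Fin n) k) :
    locHom α p hp (algebraMap _ _ a) = α a :=
  IsLocalization.lift_eq _ a

theorem locHom_surjective {n : ℕ} {α : MvPolynomial (Fin n) k →ₐ[k] S} (hα : IsGen α)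
    (p : Ideal (MvPolynomial (Fin n) k)) [p.IsPrime] (hp : p = (maximalIdeal S).comap α.toRingHom) :
    Function.Surjective (locHom α p hp) := fun s => by
  obtain ⟨a, b, hb, hs⟩ := hα s
  have hbp : b ∈ p.primeCompl := fun h => by
    rw [hp] at h
    exact (mem_maximalIdeal _).mp h hb
  refine ⟨IsLocalization.mk' _ a ⟨b, hbp⟩, hb.mul_right_cancel ?_⟩
  rw [hs, ← locHom_algebraMap α p hp b, ← map_mul]
  exact (congrArg (locHom α p hp) (IsLocalization.mk'_spec (Localization.AtPrime p) a (⟨b, hbp⟩ : p.primeCompl))).trans (locHom_algebraMap α p hp a)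

/-- The kernel may be computed on the local ring of affine space. -/
theorem regGen_ker_iff {R : Type u} [CommRing R] [IsRegularLocalRing R] [Algebra k R] (π : R →ₐ[k] S)
    (hπ : Function.Surjective π) {n : ℕ} (δ : MvPolynomial (Fin n) k →ₐ[k] R) (hδ : IsGen δ)
    (β : MvPolynomial (Fin n) k →ₐ[k] S) (hβ : π.comp δ = β) (p : Ideal (MvPolynomial (Fin n) k)) [p.IsPrime]
    (hp : p = (maximalIdeal S).comap β.toRingHom) :
    RegGen (RingHom.ker π.toRingHom) ↔ RegGen (RingHom.ker (locHom β p hp).toRingHom) := by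
  haveI : IsLocalHom π.toRingHom := IsLocalHom.of_surjective π.toRingHom hπ
  have hm : (maximalIdeal S).comap π.toRingHom = maximalIdeal R := maximalIdeal_comap π.toRingHom
  have hp' : p = (maximalIdeal R).comap δ.toRingHom := by
    rw [← hm, Ideal.comap_comap, hp]
    exact congrArg (fun f : MvPolynomial (Fin n) k →ₐ[k] S => (maximalIdeal S).comap f.toRingHom) hβ.symm
  have hc : π.comp (locHom δ p hp') = locHom β p hp := by
    refine AlgHom.coe_ringHom_injective (IsLocalization.ringHom_ext p.primeCompl (RingHom.ext fun a => ?_))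
    show π (locHom δ p hp' (algebraMap _ _ a)) = locHom β p hp (algebraMap _ _ a)
    rw [locHom_algebraMap, locHom_algebraMap, ← hβ]
    rfl
  have hk : RingHom.ker (locHom β p hp).toRingHom =
      (RingHom.ker π.toRingHom).comap (locHom δ p hp').toRingHom := by
    rw [← hc]
    exact RingHom.comap_ker π.toRingHom (locHom δ p hp').toRingHom |>.symm
  rw [hk]
  exact (regGen_comap_iff (locHom δ p hp').toRingHom (locHom_surjective hδ p hp') _
    (RingHom.ker_ne_top π.toRingHom)).symm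

/-- Generation of the kernel by a regular sequence does not depend on the presentation. -/
theorem regGen_ker_congr {R₁ R₂ : Type u} [CommRing R₁] [IsRegularLocalRing R₁] [Algebra k R₁]
    [CommRing R₂] [IsRegularLocalRing R₂] [Algebra k R₂] [Algebra.EssFiniteType k R₁] [Algebra.EssFiniteType k R₂]
    (π₁ : R₁ →ₐ[k] S) (h₁ : Function.Surjective π₁) (π₂ : R₂ →ₐ[k] S) (h₂ : Function.Surjective π₂) :
    RegGen (RingHom.ker π₁.toRingHom) ↔ RegGen (RingHom.ker π₂.toRingHom) := by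
  obtain ⟨n₁, γ₁, hγ₁⟩ := exists_isGen (k := k) (S := R₁)
  obtain ⟨n₂, γ₂, hγ₂⟩ := exists_isGen (k := k) (S := R₂)
  choose u hu using fun i => h₁ (π₂ (γ₂ (X i)))
  choose w hw using fun i => h₂ (π₁ (γ₁ (X i)))
  let δ₁ : MvPolynomial (Fin (n₁ + n₂)) k →ₐ[k] R₁ := aeval (Fin.append (fun i => γ₁ (X i)) u)
  let δ₂ : MvPolynomial (Fin (n₁ + n₂)) k →ₐ[k] R₂ := aeval (Fin.append w (fun i => γ₂ (X i)))
  have e₁ : δ₁.comp (rename (Fin.castAdd n₂)) = γ₁ := MvPolynomial.algHom_ext fun i => by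
    simp [δ₁]
  have e₂ : δ₂.comp (rename (Fin.natAdd n₁)) = γ₂ := MvPolynomial.algHom_ext fun i => by
    simp [δ₂]
  have hδ₁ : IsGen δ₁ := fun s => by
    obtain ⟨a, b, hb, hs⟩ := hγ₁ s
    rw [← e₁] at hb hs
    exact ⟨_, _, hb, hs⟩
  have hδ₂ : IsGen δ₂ := fun s => by
    obtain ⟨a, b, hb, hs⟩ := hγ₂ s
    rw [← e₂] at hb hs
    exact ⟨_, _, hb, hs⟩
  have hcomp : π₂.comp δ₂ = π₁.comp δ₁ := MvPolynomial.algHom_ext fun i => by
    induction i using Fin.addCases with
    | left i => simp [δ₁, δ₂, hw]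
    | right i => simp [δ₁, δ₂, hu]
  let β := π₁.comp δ₁
  let p := (maximalIdeal S).comap β.toRingHom
  haveI : p.IsPrime := Ideal.IsPrime.comap _
  rw [regGen_ker_iff π₁ h₁ δ₁ hδ₁ β rfl p rfl, regGen_ker_iff π₂ h₂ δ₂ hδ₂ β hcomp p rfl]

variable (k S) in
/-- Complete intersection means: some presentation has a regular kernel. -/
theorem isCIOver_iff : Synt.IsCIOver k S ↔
    ∃ (R : Type u) (_ : CommRing R) (_ : IsRegularLocalRing R) (_ : Algebra k R),
      Algebra.EssFiniteType k R ∧ ∃ π : R →ₐ[k] S, Function.Surjective π ∧ RegGen (RingHom.ker π.toRingHom) := by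
  constructor
  · rintro ⟨R, _, _, _, hR, rs, -, hrs, ⟨e⟩⟩
    refine ⟨R, _, inferInstance, _, hR, e.symm.toAlgHom.comp (Ideal.Quotient.mkₐ k _),
      e.symm.surjective.comp Ideal.Quotient.mk_surjective, rs, hrs.toIsWeaklyRegular, ?_⟩
    ext z
    rw [RingHom.mem_ker]
    show z ∈ _ ↔ e.symm (Ideal.Quotient.mk _ z) = 0
    rw [EmbeddingLike.map_eq_zero_iff, Ideal.Quotient.eq_zero_iff_mem]
  · rintro ⟨R, _, _, _, hR, π, hπ, hgen⟩
    obtain ⟨rs, hrs, hI⟩ := hgen.exists_isRegular (RingHom.ker_ne_top π.toRingHom)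
    refine ⟨R, _, inferInstance, _, hR, rs, fun r hr => ?_, hrs,
      ⟨((Ideal.quotientKerAlgEquivOfSurjective hπ).symm).trans (Ideal.quotientEquivAlgOfEq k hI.symm)⟩⟩
    exact IsLocalRing.le_maximalIdeal (RingHom.ker_ne_top π.toRingHom) (hI ▸ Ideal.subset_span hr)

theorem regGen_of_isCIOver (h : Synt.IsCIOver k S) {R : Type u} [CommRing R] [IsRegularLocalRing R] [Algebra k R]
    [Algebra.EssFiniteType k R] (π : R →ₐ[k] S) (hπ : Function.Surjective π) :
    RegGen (RingHom.ker π.toRingHom) := by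
  obtain ⟨R', _, _, _, hR', π', hπ', hgen⟩ := (isCIOver_iff k S).mp h
  exact (regGen_ker_congr π' hπ' π hπ).mp hgen

theorem isCIOver_iff_regGen {R : Type u} [CommRing R] [IsRegularLocalRing R] [Algebra k R]
    [Algebra.EssFiniteType k R] (π : R →ₐ[k] S) (hπ : Function.Surjective π) :
    Synt.IsCIOver k S ↔ RegGen (RingHom.ker π.toRingHom) :=
  ⟨fun h => regGen_of_isCIOver h π hπ,
    fun h => (isCIOver_iff k S).mpr ⟨R, _, inferInstance, _, inferInstance, π, hπ, h⟩⟩

theorem isCIOver_of_algEquiv {S' : Type u} [CommRing S'] [IsLocalRing S'] [Algebra k S'] (e : S ≃ₐ[k] S')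
    (h : Synt.IsCIOver k S) : Synt.IsCIOver k S' := by
  obtain ⟨R, hR₁, hR₂, hR₃, hR, rs, h1, h2, ⟨e'⟩⟩ := h
  exact ⟨R, hR₁, hR₂, hR₃, hR, rs, h1, h2, ⟨e.symm.trans e'⟩⟩

end GrothLib.CIField
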