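import Groth.Agent.Lib.CIField.Basic

/-!
# Complete intersection local rings of finite type algebras over a field
-/

set_option autoImplicit false

universe u

open IsLocalRing RingTheory.Sequence MvPolynomial

namespace GrothLib.CIField

/-- Near a prime, a regular generating sequence is Koszul regular. -/
theorem kRegAt_of_regGen {P : Type u} [CommRing P] [IsNoetherianRing P] (I p : Ideal P) [p.IsPrime]
    (h : RegGen (I.map (algebraMap P (Localization.AtPrime p)))) : LCI6.KRegAt I p := by
  classical
  let L := Localization.AtPrime p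
  obtain ⟨rs, hrs, hI⟩ := h
  have hclear : ∀ i : Fin rs.length, ∃ (a : P) (u : L), IsUnit u ∧ algebraMap P L a = u * rs.get i := fun i => by
    obtain ⟨⟨a, s⟩, hs⟩ := IsLocalization.surj p.primeCompl (rs.get i)
    exact ⟨a, algebraMap P L s, IsLocalization.map_units L s, by rw [← hs, mul_comm]⟩
  choose a u hu hau using hclear
  have hwa : IsWeaklyRegular L ((List.ofFn a).map (algebraMap P L)) := by
    rw [List.map_ofFn, show algebraMap P L ∘ a = fun i => u i * rs.get i from funext hau]
    exact GrothLib.RegSeqLoc.isWeaklyRegular_ofFn_mul u hu (by rwa [List.ofFn_get])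
  obtain ⟨g₁, hg₁, hreg⟩ := GrothLib.RegSeqLoc.exists_away_isWeaklyRegular p.primeCompl L _ hwa
  obtain ⟨g₂, hg₂, heq⟩ := GrothLib.RelReg.exists_away_eq_of_fg p.primeCompl L I (Ideal.span (Set.range a))
    (IsNoetherian.noetherian _) (IsNoetherian.noetherian _) (by
      rw [← hI, Ideal.map_span, ← Set.range_comp]
      refine le_antisymm (Ideal.span_le.mpr ?_) (Ideal.span_le.mpr ?_)
      · intro x hx
        obtain ⟨i, rfl⟩ := List.get_of_mem (show x ∈ rs from hx)
        rw [SetLike.mem_coe, show rs.get i = ↑(hu i).unit⁻¹ * algebraMap P L (a i) by simp [hau, ← mul_assoc]]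
        exact Ideal.mul_mem_left _ _ (Ideal.subset_span ⟨i, rfl⟩)
      · rintro _ ⟨i, rfl⟩
        show algebraMap P L (a i) ∈ _
        rw [hau]
        exact Ideal.mul_mem_left _ _ (Ideal.subset_span (List.get_mem rs i)))
  let B := Localization.Away (g₁ * g₂)
  have hu₁ : IsUnit (algebraMap P B g₁) :=
    isUnit_of_dvd_unit (map_dvd _ (dvd_mul_right g₁ g₂)) (IsLocalization.Away.algebraMap_isUnit (g₁ * g₂))
  have hu₂ : IsUnit (algebraMap P B g₂) :=
    isUnit_of_dvd_unit (map_dvd _ (dvd_mul_left g₂ g₁)) (IsLocalization.Away.algebraMap_isUnit (g₁ * g₂))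
  refine ⟨g₁ * g₂, fun h => (Ideal.IsPrime.mem_or_mem inferInstance h).elim hg₁ hg₂,
    ((List.ofFn a).map (algebraMap P B)).reverse,
    GrothLib.KoszulColon.isKoszulRegularSeq_of_isWeaklyRegular _
      (by rw [List.reverse_reverse]; exact hreg (Submonoid.powers (g₁ * g₂)) B hu₁), ?_⟩
  rw [heq B (algebraMap P B) hu₂, Ideal.map_span, ← Set.range_comp]
  simp [Ideal.ofList, List.mem_ofFn, Set.range, Function.comp_def, B]

theorem regGen_of_kRegAt {P : Type u} [CommRing P] [IsNoetherianRing P] (I p : Ideal P) [p.IsPrime] (hIp : I ≤ p)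
    (h : LCI6.KRegAt I p) : RegGen (I.map (algebraMap P (Localization.AtPrime p))) := by
  obtain ⟨g, hg, l, hl, hI⟩ := h
  obtain ⟨l', -, hl', hI'⟩ := LCI6.exists_atPrime_list g l hl hI p hg
  let L := Localization.AtPrime p
  have hmem : ∀ i, l'.get i ∈ maximalIdeal L := fun i => by
    rw [← Localization.AtPrime.map_eq_maximalIdeal]
    exact Ideal.map_mono hIp (hI' ▸ Ideal.subset_span (List.get_mem l' i))
  have hH1 := GrothLib.SeqKinds.isH1Regular_of_isKoszulRegularSeq l' hl'
  refine ⟨List.ofFn l'.get, ?_, by rw [List.ofFn_get, hI']⟩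
  refine GrothLib.KoszulH1.isWeaklyRegular_of_separates _
    (fun i => GrothLib.KoszulH1.separates_of_mem_jacobson (IsLocalRing.maximalIdeal_le_jacobson ⊥ (hmem i))) ?_
  intro m hm
  refine Submodule.span_le.2 ?_ (hH1 m (by rw [← hm]; exact Finset.sum_congr rfl fun i _ => mul_comm _ _))
  rintro _ ⟨i, j, rfl⟩
  exact Submodule.subset_span ⟨i, j, 1, by simp [← Pi.single_smul']⟩

variable {k : Type u} [Field k] {A : Type u} [CommRing A] [Algebra k A]

theorem isGen_atPrime {n : ℕ} (α : MvPolynomial (Fin n) k →ₐ[k] A) (hα : Function.Surjective α) (q : Ideal A)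
    [q.IsPrime] : IsGen ((IsScalarTower.toAlgHom k A (Localization.AtPrime q)).comp α) := fun s => by
  obtain ⟨⟨a, t⟩, hs⟩ := IsLocalization.surj q.primeCompl s
  obtain ⟨a, rfl⟩ := hα a
  obtain ⟨b, hb⟩ := hα t
  refine ⟨a, b, ?_, ?_⟩
  · show IsUnit (algebraMap A (Localization.AtPrime q) (α b))
    rw [hb]
    exact IsLocalization.map_units _ t
  · show s * algebraMap A (Localization.AtPrime q) (α b) = algebraMap A (Localization.AtPrime q) (α a)
    rw [hb]
    exact hs

/-- Complete intersection at a prime is Koszul regularity of any presentation there. -/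
theorem isCIOver_atPrime_iff {n : ℕ} (α : MvPolynomial (Fin n) k →ₐ[k] A) (hα : Function.Surjective α) (q : Ideal A)
    [q.IsPrime] :
    Synt.IsCIOver k (Localization.AtPrime q) ↔
      LCI6.KRegAt (RingHom.ker α.toRingHom) (q.comap α.toRingHom) := by
  let P := MvPolynomial (Fin n) k
  let I := RingHom.ker α.toRingHom
  let p : Ideal P := q.comap α.toRingHom
  haveI : p.IsPrime := Ideal.IsPrime.comap _
  let S := Localization.AtPrime q
  let β : P →ₐ[k] S := (IsScalarTower.toAlgHom k A S).comp α
  have hp : p = (maximalIdeal S).comap β.toRingHom := by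
    show q.comap α.toRingHom = (maximalIdeal S).comap ((algebraMap A S).comp α.toRingHom)
    rw [← Ideal.comap_comap]
    exact congrArg _ (IsLocalization.AtPrime.comap_maximalIdeal S q).symm
  haveI : Algebra.EssFiniteType k (Localization.AtPrime p) :=
    Algebra.EssFiniteType.comp k P (Localization.AtPrime p)
  rw [isCIOver_iff_regGen (locHom β p hp) (locHom_surjective (isGen_atPrime α hα q) p hp)]
  have hk : RingHom.ker (locHom β p hp).toRingHom = I.map (algebraMap P (Localization.AtPrime p)) := by
    apply le_antisymm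
    · intro z hz
      obtain ⟨⟨a, s⟩, hs⟩ := IsLocalization.surj p.primeCompl z
      refine (Ideal.mul_unit_mem_iff_mem _ (IsLocalization.map_units _ s)).mp ?_
      rw [hs]
      have h0 : algebraMap A S (α a) = 0 := by
        show β a = 0
        rw [← locHom_algebraMap β p hp, ← hs, map_mul, show locHom β p hp z = 0 from hz, zero_mul]
      obtain ⟨t, ht⟩ := (IsLocalization.map_eq_zero_iff q.primeCompl S _).mp h0
      obtain ⟨t', ht'⟩ := hα t
      have htp : t' ∈ p.primeCompl := fun h => t.2 (ht' ▸ h)
      refine (IsLocalization.algebraMap_mem_map_algebraMap_iff p.primeCompl _ I a).mpr ⟨t', htp, ?_⟩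
      show α (t' * a) = 0
      rw [map_mul, ht', ht]
    · rw [Ideal.map_le_iff_le_comap]
      intro a ha
      show locHom β p hp (algebraMap P _ a) = 0
      rw [locHom_algebraMap]
      show algebraMap A S (α a) = 0
      rw [show α a = 0 from ha, map_zero]
  rw [hk]
  exact ⟨kRegAt_of_regGen I p,
    regGen_of_kRegAt I p fun a ha => by
      show α a ∈ q
      rw [show α a = 0 from ha]
      exact q.zero_mem⟩

theorem isCIOver_atPrime_of_isLCIOver (h : Synt.IsLCIOver k A) (q : Ideal A) [q.IsPrime] :
    Synt.IsCIOver k (Localization.AtPrime q) := by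
  haveI := h.1
  obtain ⟨n, α, hα⟩ := Algebra.FiniteType.iff_quotient_mvPolynomial''.mp (inferInstance : Algebra.FiniteType k A)
  exact (isCIOver_atPrime_iff α hα q).mpr ((LCI6.isKoszulRegularIdeal_ker_iff _ hα).mp
    (LCI6.isKoszulRegularIdeal_of_isLCI (LCI6.isLCIOver_iff_isLCI.mp h) α hα) q inferInstance)

theorem exists_isGlobalCI_away [Algebra.FiniteType k A] (q : Ideal A) [q.IsPrime]
    (h : Synt.IsCIOver k (Localization.AtPrime q)) :
    ∃ g, g ∉ q ∧ Synt.IsGlobalCI k (Localization.Away g) := by
  obtain ⟨n, α, hα⟩ := Algebra.FiniteType.iff_quotient_mvPolynomial''.mp (inferInstance : Algebra.FiniteType k A)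
  obtain ⟨g, r, x, hg, -, hx, hIx⟩ := ((isCIOver_atPrime_iff α hα q).mp h).exists_fin
  exact ⟨α g, hg, LCI6.isGlobalCI_away_of_koszul α hα g x hx hIx⟩

theorem isLCIOver_of_isGlobalCI [Algebra.FiniteType k A] (h : Synt.IsGlobalCI k A) : Synt.IsLCIOver k A :=
  LCI6.isLCIOver_iff_isLCI.mpr (LCI6.isLCI_of_isGlobalCI h)

instance finiteType_away [Algebra.FiniteType k A] (g : A) : Algebra.FiniteType k (Localization.Away g) :=
  Algebra.FiniteType.trans (S := A) inferInstance (IsLocalization.finiteType_of_monoid_fg (Submonoid.powers g) _)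

theorem isCIOver_atPrime_of_away (q : Ideal A) [q.IsPrime] (g : A) (hg : g ∉ q)
    (h : Synt.IsLCIOver k (Localization.Away g)) : Synt.IsCIOver k (Localization.AtPrime q) := by
  let Ag := Localization.Away g
  have hd : Disjoint (Submonoid.powers g : Set A) (q : Set A) :=
    Set.disjoint_left.mpr fun y ⟨m, hm⟩ hy =>
      hg (Ideal.IsPrime.mem_of_pow_mem inferInstance m ((show g ^ m = y from hm).symm ▸ hy))
  let q' : Ideal Ag := q.map (algebraMap A Ag)
  haveI : q'.IsPrime := IsLocalization.isPrime_of_isPrime_disjoint (Submonoid.powers g) Ag q inferInstance hd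
  have hc : q'.comap (algebraMap A Ag) = q :=
    IsLocalization.comap_map_of_isPrime_disjoint (Submonoid.powers g) Ag inferInstance hd
  haveI : IsLocalization.AtPrime (Localization.AtPrime q') q := by
    have := IsLocalization.isLocalization_isLocalization_atPrime_isLocalization
      (Submonoid.powers g) (S := Ag) (Localization.AtPrime q') q'
    simpa only [hc] using this
  exact isCIOver_of_algEquiv
    ((IsLocalization.algEquiv q.primeCompl (Localization.AtPrime q') (Localization.AtPrime q)).restrictScalars k)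
    (isCIOver_atPrime_of_isLCIOver h q')

/-- A complete intersection local ring is a local ring of a global complete intersection. -/
theorem exists_globalCI_model {S : Type u} [CommRing S] [IsLocalRing S] [Algebra k S] [Algebra.EssFiniteType k S]
    (h : Synt.IsCIOver k S) :
    ∃ (A : Type u) (_ : CommRing A) (_ : Algebra k A) (a : Ideal A) (_ : a.IsPrime),
      Algebra.FiniteType k A ∧ Synt.IsGlobalCI k A ∧ Nonempty (S ≃ₐ[k] Localization.AtPrime a) := by
  obtain ⟨n, β, hβ⟩ := exists_isGen (k := k) (S := S)
  let B := MvPolynomial (Fin n) k ⧸ RingHom.ker β.toRingHom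
  let ι : B →ₐ[k] S := Ideal.Quotient.liftₐ _ β fun _ h => h
  have hι : Function.Injective ι := by
    refine (injective_iff_map_eq_zero ι).mpr fun z hz => ?_
    obtain ⟨z, rfl⟩ := Ideal.Quotient.mk_surjective z
    exact Ideal.Quotient.eq_zero_iff_mem.mpr (show β z = 0 from hz)
  letI := ι.toRingHom.toAlgebra
  haveI : IsScalarTower k B S := IsScalarTower.of_algebraMap_eq fun x => (ι.commutes x).symm
  let q : Ideal B := (maximalIdeal S).comap (algebraMap B S)
  haveI : q.IsPrime := Ideal.IsPrime.comap _
  haveI : IsLocalization.AtPrime S q :=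
    { map_units := fun y => by
        by_contra hu
        exact y.2 ((mem_maximalIdeal _).mpr hu)
      surj := fun s => by
        obtain ⟨a, b, hb, hs⟩ := hβ s
        exact ⟨⟨Ideal.Quotient.mk _ a, ⟨Ideal.Quotient.mk _ b, fun hm => (mem_maximalIdeal _).mp hm hb⟩⟩, hs⟩
      exists_of_eq := fun hxy => ⟨1, by rw [hι hxy]⟩ }
  let e := (IsLocalization.algEquiv q.primeCompl S (Localization.AtPrime q)).restrictScalars k
  obtain ⟨g, hg, hgci⟩ := exists_isGlobalCI_away q (isCIOver_of_algEquiv e h)
  let Bg := Localization.Away g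
  have hd : Disjoint (Submonoid.powers g : Set B) (q : Set B) :=
    Set.disjoint_left.mpr fun y ⟨m, hm⟩ hy =>
      hg (Ideal.IsPrime.mem_of_pow_mem inferInstance m ((show g ^ m = y from hm).symm ▸ hy))
  let q' : Ideal Bg := q.map (algebraMap B Bg)
  haveI : q'.IsPrime := IsLocalization.isPrime_of_isPrime_disjoint (Submonoid.powers g) Bg q inferInstance hd
  have hc : q'.comap (algebraMap B Bg) = q :=
    IsLocalization.comap_map_of_isPrime_disjoint (Submonoid.powers g) Bg inferInstance hd
  haveI : IsLocalization.AtPrime (Localization.AtPrime q') q := by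
    have := IsLocalization.isLocalization_isLocalization_atPrime_isLocalization
      (Submonoid.powers g) (S := Bg) (Localization.AtPrime q') q'
    simpa only [hc] using this
  exact ⟨Bg, inferInstance, inferInstance, q', inferInstance, inferInstance, hgci,
    ⟨e.trans ((IsLocalization.algEquiv q.primeCompl (Localization.AtPrime q) (Localization.AtPrime q')).restrictScalars k)⟩⟩

end GrothLib.CIField
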