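import Groth.Agent.Lib.RegExch.Basic
import Groth.Agent.Lib.RegLoc.Basic
import Groth.Agent.Lib.CMFree.Params

/-!
# Ideals generated by regular sequences and surjections of regular local rings
-/

set_option autoImplicit false

universe u

open IsLocalRing RingTheory.Sequence

namespace GrothLib.CIField

variable {R : Type u} [CommRing R]

/-- The ideal is generated by a weakly regular sequence. -/
def RegGen (I : Ideal R) : Prop :=
  ∃ rs : List R, IsWeaklyRegular R rs ∧ Ideal.ofList rs = I

theorem RegGen.of_isRegular {I : Ideal R} {rs : List R} (h : IsRegular R rs) (hI : Ideal.ofList rs = I) :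
    RegGen I := ⟨rs, h.toIsWeaklyRegular, hI⟩

theorem RegGen.exists_isRegular {I : Ideal R} (h : RegGen I) (hI : I ≠ ⊤) :
    ∃ rs : List R, IsRegular R rs ∧ Ideal.ofList rs = I := by
  obtain ⟨rs, hrs, rfl⟩ := h
  exact ⟨rs, ⟨hrs, fun htop => hI (by rw [smul_eq_mul, Ideal.mul_top] at htop; exact htop.symm)⟩, rfl⟩

/-- Regularity of a lifted sequence. -/
theorem isWeaklyRegular_append {as bs : List R} (ha : IsWeaklyRegular R as)
    (hb : IsWeaklyRegular (R ⧸ Ideal.ofList as) (bs.map (Ideal.Quotient.mk (Ideal.ofList as)))) :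
    IsWeaklyRegular R (as ++ bs) := by
  rw [GrothLib.RegSeqLoc.isWeaklyRegular_iff_mem] at ha hb ⊢
  intro i hi x hx
  rcases lt_or_ge i as.length with hia | hia
  · have h1 : (as ++ bs).take i = as.take i := List.take_append_of_le_length hia.le
    have h2 : (as ++ bs)[i] = as[i] := List.getElem_append_left hia
    rw [h1] at hx ⊢
    rw [h2] at hx
    exact ha i hia x hx
  · obtain ⟨j, rfl⟩ : ∃ j, i = as.length + j := ⟨i - as.length, by omega⟩
    rw [List.length_append] at hi
    have hj : j < bs.length := by omega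
    have h2 : (as ++ bs)[as.length + j]'(by rw [List.length_append]; omega) = bs[j] := by
      rw [List.getElem_append_right (by omega)]
      simp
    rw [List.take_length_add_append, Ideal.ofList_append] at hx ⊢
    rw [h2] at hx
    have h' := hb j (by simpa using hj) (Ideal.Quotient.mk _ x)
    rw [← List.map_take, List.getElem_map, ← map_mul, GrothLib.RegExch.mk_mem_ofList_map_iff,
      GrothLib.RegExch.mk_mem_ofList_map_iff] at h'
    exact h' hx

/-- Weak regularity transfers along ring isomorphisms. -/
theorem isWeaklyRegular_ringEquiv {A B : Type u} [CommRing A] [CommRing B] (e : A ≃+* B) (l : List A)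
    (h : IsWeaklyRegular A l) : IsWeaklyRegular B (l.map e) :=
  (AddEquiv.isWeaklyRegular_congr (e := e.toAddEquiv) (List.forall₂_map_right_iff.mpr
    (List.forall₂_same.mpr fun r _ x => map_mul e r x))).mp h

theorem exists_span_fin (l : List R) : ∃ z : Fin l.length → R, Ideal.span (Set.range z) = Ideal.ofList l := by
  refine ⟨l.get, congrArg Ideal.span (Set.ext fun x => ?_)⟩
  exact ⟨fun ⟨i, hi⟩ => hi ▸ List.get_mem l i, fun hx => List.get_of_mem hx⟩

/-- A part of a regular system of parameters is independent modulo the square of the maximal ideal. -/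
theorem notMem_sup_sq [IsLocalRing R] [IsNoetherianRing R] (xs : List R) (hxs : Ideal.ofList xs = maximalIdeal R)
    (hlen : xs.length = (maximalIdeal R).spanFinrank) (l₁ : List R) (g : R) (l₂ : List R)
    (h : xs = l₁ ++ g :: l₂) : g ∉ Ideal.ofList l₁ ⊔ maximalIdeal R ^ 2 := by
  intro hg
  have hperm : Ideal.ofList xs = Ideal.span {g} ⊔ Ideal.ofList (l₁ ++ l₂) := by
    rw [h, GrothLib.RegExch.ofList_perm List.perm_middle, Ideal.ofList_cons]
  have hle : Ideal.ofList (l₁ ++ l₂) ≤ maximalIdeal R := by
    rw [← hxs, hperm]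
    exact le_sup_right
  have heq : Ideal.ofList (l₁ ++ l₂) = maximalIdeal R := by
    refine GrothLib.RegLoc.eq_maximalIdeal_of_sup_sq hle ?_
    conv_lhs => rw [← hxs, hperm]
    refine sup_le ((Ideal.span_singleton_le_iff_mem _).mpr ?_) le_sup_left
    refine (sup_le_sup_right ?_ (maximalIdeal R ^ 2)) hg
    rw [Ideal.ofList_append]
    exact le_sup_left
  obtain ⟨z, hz⟩ := exists_span_fin (l₁ ++ l₂)
  have := GrothLib.RegLoc.spanFinrank_le_of_span z (hz.trans heq)
  rw [← hlen, h] at this
  simp only [List.length_append, List.length_cons] at this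
  omega

/-- Generation by a regular sequence can be read off after a surjection of regular local rings. -/
theorem regGen_comap_iff {E E' : Type u} [CommRing E] [CommRing E'] [IsRegularLocalRing E] [IsRegularLocalRing E']
    (φ : E →+* E') (hφ : Function.Surjective φ) (I' : Ideal E') (hI' : I' ≠ ⊤) :
    RegGen (I'.comap φ) ↔ RegGen I' := by
  let J := RingHom.ker φ
  let e : (E ⧸ J) ≃+* E' := RingHom.quotientKerEquivOfSurjective hφ
  haveI : IsRegularLocalRing (E ⧸ J) := IsRegularLocalRing.of_ringEquiv e.symm
  obtain ⟨x, c, hc, hx, hJ, -⟩ := GrothLib.RegLoc.exists_generators_quotient _ E rfl J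
  let fs := List.ofFn fun i : Fin c => x (Fin.castLE hc i)
  have hfsJ : Ideal.ofList fs = J := by
    rw [hJ]
    refine congrArg Ideal.span (Set.ext fun y => ?_)
    simp [fs, List.mem_ofFn]
  have hxs : Ideal.ofList (List.ofFn x) = maximalIdeal E := by
    exact (congrArg Ideal.span (Set.ext fun y => List.mem_ofFn)).trans hx
  have hsplit : List.ofFn x = fs ++ (List.ofFn x).drop c := by
    conv_lhs => rw [← List.take_append_drop c (List.ofFn x)]
    congr 1
    refine List.ext_getElem (by simpa [fs] using hc) fun i h1 h2 => ?_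
    simp [fs]
  have hwfs : IsWeaklyRegular E fs := by
    have hw := GrothLib.RegLoc.isWeaklyRegular_ofFn _ E rfl x hx
    rw [hsplit, isWeaklyRegular_append_iff] at hw
    exact hw.1
  have htransfer : ∀ l : List E, IsWeaklyRegular (E ⧸ J) (l.map (Ideal.Quotient.mk J)) ↔
      IsWeaklyRegular E' (l.map φ) := fun l => by
    refine ⟨fun h => ?_, fun h => ?_⟩
    · have := isWeaklyRegular_ringEquiv e _ h
      rwa [List.map_map] at this
    · have := isWeaklyRegular_ringEquiv e.symm _ h
      rw [List.map_map] at this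
      rwa [show (e.symm ∘ φ : E → E ⧸ J) = Ideal.Quotient.mk J from funext fun y => e.symm_apply_eq.mpr rfl] at this
  have hcomap : ∀ l : List E, (Ideal.ofList (l.map φ)).comap φ = J ⊔ Ideal.ofList l := fun l => by
    rw [← Ideal.map_ofList, Ideal.comap_map_of_surjective' φ hφ, sup_comm]
  constructor
  · rintro ⟨xs, hxs', hIxs⟩
    have hIm : I'.comap φ ≤ maximalIdeal E := IsLocalRing.le_maximalIdeal (Ideal.comap_ne_top _ hI')
    obtain ⟨gs, hgs, hgI⟩ := GrothLib.RegExch.exists_extend fs xs hxs'
      (fun z hz => hIm (hIxs ▸ Ideal.subset_span hz))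
      (fun g hg => by
        rw [hIxs]
        refine (?_ : J ≤ I'.comap φ) (hfsJ ▸ Ideal.subset_span hg)
        exact fun z hz => by rw [Ideal.mem_comap, show φ z = 0 from hz]; exact I'.zero_mem)
      (fun l₁ g l₂ h hmem => notMem_sup_sq (List.ofFn x) hxs (List.length_ofFn) l₁ g
        (l₂ ++ (List.ofFn x).drop c) (by conv_lhs => rw [hsplit, h]
                                         simp) ((sup_le_sup_left (by
          rw [hIxs, pow_two]
          exact Ideal.mul_mono_right hIm) (Ideal.ofList l₁)) hmem))
    refine ⟨gs.map φ, (htransfer gs).mp ?_, ?_⟩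
    · have := GrothLib.RegExch.isWeaklyRegular_quotient hgs
      rw [hfsJ] at this
      exact this
    · refine Ideal.comap_injective_of_surjective φ hφ ?_
      rw [hcomap, ← hIxs, ← hgI, Ideal.ofList_append, hfsJ]
  · rintro ⟨ys, hys, hIys⟩
    obtain ⟨gs, rfl⟩ : ∃ gs : List E, gs.map φ = ys := List.map_surjective_iff.mpr hφ ys
    refine ⟨fs ++ gs, isWeaklyRegular_append hwfs ?_, ?_⟩
    · rw [hfsJ]
      exact (htransfer gs).mpr hys
    · rw [← hIys, hcomap, Ideal.ofList_append, hfsJ]

end GrothLib.CIField
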