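import Groth.Agent.Lib.CIField.FiniteType
import Groth.Agent.Lib.RelGCIReg.Scheme
import Mathlib.AlgebraicGeometry.Noetherian

/-!
# Complete intersection stalks of schemes over a field
-/

set_option autoImplicit false

universe u

open AlgebraicGeometry CategoryTheory

namespace GrothLib.CIField

theorem isGlobalCI_of_algEquiv {k A B : Type u} [Field k] [CommRing A] [CommRing B] [Algebra k A] [Algebra k B]
    (e : A ≃ₐ[k] B) (h : Synt.IsGlobalCI k A) : Synt.IsGlobalCI k B := by
  rcases h with h | ⟨n, c, hc, φ, r, hφ, hker, hdim⟩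
  · exact Or.inl e.symm.toEquiv.subsingleton
  · refine Or.inr ⟨n, c, hc, e.toAlgHom.comp φ, r, e.surjective.comp hφ, ?_, ?_⟩
    · rw [← hker]
      ext x
      show e (φ x) = 0 ↔ φ x = 0
      exact EmbeddingLike.map_eq_zero_iff
    · rw [← hdim, ringKrullDim_eq_of_ringEquiv e.toRingEquiv]

/-- The structure map of an open piece over a field. -/
noncomputable def kMap (k : Type u) [Field k] {X : Scheme.{u}} (p : X ⟶ Spec (CommRingCat.of k)) (U : X.Opens) :
    CommRingCat.of k ⟶ Γ(X, U) :=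
  (Scheme.ΓSpecIso (CommRingCat.of k)).inv ≫ p.appLE ⊤ U le_top

theorem kMap_stalk (k : Type u) [Field k] {X : Scheme.{u}} (p : X ⟶ Spec (CommRingCat.of k)) (U : X.Opens) (x : X)
    (hx : x ∈ U) :
    (Scheme.ΓSpecIso (CommRingCat.of k)).inv ≫ p.appLE ⊤ ⊤ le_top ≫ X.presheaf.germ ⊤ x trivial =
      kMap k p U ≫ X.presheaf.germ U x hx := by
  rw [kMap, Category.assoc, ← Scheme.Hom.appLE_map p (V := ⊤) le_top (homOfLE (le_top : U ≤ ⊤)).op, Category.assoc,
    TopCat.Presheaf.germ_res]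

theorem stalk_ci_iff (k : Type u) [Field k] {X : Scheme.{u}} (p : X ⟶ Spec (CommRingCat.of k)) {U : X.Opens}
    (hU : IsAffineOpen U) (x : X) (hx : x ∈ U) :
    (letI := ((Scheme.ΓSpecIso (CommRingCat.of k)).inv ≫ p.appLE ⊤ ⊤ le_top ≫
        X.presheaf.germ ⊤ x trivial).hom.toAlgebra;
      Synt.IsCIOver k (X.presheaf.stalk x)) ↔
    (letI := (kMap k p U).hom.toAlgebra;
      Synt.IsCIOver k (Localization.AtPrime (hU.primeIdealOf ⟨x, hx⟩).asIdeal)) := by
  letI := (kMap k p U).hom.toAlgebra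
  letI algL := X.presheaf.algebra_section_stalk ⟨x, hx⟩
  haveI := hU.isLocalization_stalk ⟨x, hx⟩
  letI : Algebra k (X.presheaf.stalk x) := ((Scheme.ΓSpecIso (CommRingCat.of k)).inv ≫ p.appLE ⊤ ⊤ le_top ≫
    X.presheaf.germ ⊤ x trivial).hom.toAlgebra
  haveI : IsScalarTower k Γ(X, U) (X.presheaf.stalk x) := IsScalarTower.of_algebraMap_eq' (by
    show _ = (X.presheaf.germ U x hx).hom.comp (kMap k p U).hom
    rw [← CommRingCat.hom_comp, ← kMap_stalk]
    rfl)
  let e := (IsLocalization.algEquiv (hU.primeIdealOf ⟨x, hx⟩).asIdeal.primeCompl (X.presheaf.stalk x)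
    (Localization.AtPrime (hU.primeIdealOf ⟨x, hx⟩).asIdeal)).restrictScalars k
  exact ⟨GrothLib.CIField.isCIOver_of_algEquiv e, GrothLib.CIField.isCIOver_of_algEquiv e.symm⟩

theorem stalk_ci_iff_inLocus (k : Type u) [Field k] {X : Scheme.{u}} (p : X ⟶ Spec (CommRingCat.of k))
    [LocallyOfFiniteType p] (x : X) :
    (letI := ((Scheme.ΓSpecIso (CommRingCat.of k)).inv ≫ p.appLE ⊤ ⊤ le_top ≫
        X.presheaf.germ ⊤ x trivial).hom.toAlgebra;
      Synt.IsCIOver k (X.presheaf.stalk x)) ↔ LCI6.InLocus p x := by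
  have bij := ConcreteCategory.bijective_of_isIso (Scheme.ΓSpecIso (CommRingCat.of k)).inv
  constructor
  · intro h
    obtain ⟨U, hU, hx, -⟩ := LCI6.exists_affine_le (x := x) (O := ⊤) trivial
    letI := (kMap k p U).hom.toAlgebra
    haveI : Algebra.FiniteType k Γ(X, U) := by
      show (kMap k p U).hom.FiniteType
      rw [kMap, CommRingCat.hom_comp]
      exact RingHom.FiniteType.comp
        (HasRingHomProperty.appLE @LocallyOfFiniteType p inferInstance ⟨⊤, isAffineOpen_top _⟩ ⟨U, hU⟩ le_top)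
        (RingHom.FiniteType.of_surjective _ bij.2)
    obtain ⟨g, hg, hG⟩ := exists_isGlobalCI_away (k := k) _ ((stalk_ci_iff k p hU x hx).mp h)
    refine ⟨X.basicOpen g, ⊤, hU.basicOpen g, isAffineOpen_top _, le_top,
      (LCI6.mem_basicOpen_iff_notMem hU hx g).mpr hg, ?_⟩
    haveI := hU.isLocalization_basicOpen g
    letI : Algebra k Γ(X, X.basicOpen g) := (kMap k p (X.basicOpen g)).hom.toAlgebra
    letI := (p.appLE ⊤ (X.basicOpen g) le_top).hom.toAlgebra
    haveI : IsScalarTower k Γ(X, U) Γ(X, X.basicOpen g) := IsScalarTower.of_algebraMap_eq' (by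
      show _ = (X.presheaf.map (homOfLE (X.basicOpen_le g)).op).hom.comp (kMap k p U).hom
      rw [← CommRingCat.hom_comp, kMap, Category.assoc, Scheme.Hom.appLE_map]
      rfl)
    haveI : Algebra.FiniteType k Γ(X, X.basicOpen g) := Algebra.FiniteType.equiv (finiteType_away g)
      ((IsLocalization.algEquiv (Submonoid.powers g) (Localization.Away g) Γ(X, X.basicOpen g)).restrictScalars k)
    have hk : RelGCIReg.SyntHom (kMap k p (X.basicOpen g)).hom :=
      LCI6.isSyntomic_iff.mpr ⟨inferInstance, LCI6.isLCI_of_isGlobalCI (isGlobalCI_of_algEquiv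
        ((IsLocalization.algEquiv (Submonoid.powers g) (Localization.Away g)
          Γ(X, X.basicOpen g)).restrictScalars k) hG)⟩
    have hap : RelGCIReg.SyntHom (p.appLE ⊤ (X.basicOpen g) le_top).hom := by
      rw [show p.appLE ⊤ (X.basicOpen g) le_top =
        (Scheme.ΓSpecIso (CommRingCat.of k)).hom ≫ kMap k p (X.basicOpen g) by rw [kMap, Iso.hom_inv_id_assoc],
        CommRingCat.hom_comp]
      exact RelGCIReg.syntHom_comp _ _ (RelGCIReg.syntHom_of_bijective _
        (ConcreteCategory.bijective_of_isIso (Scheme.ΓSpecIso (CommRingCat.of k)).hom)) hk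
    exact (LCI6.isSyntomic_iff.mp hap).2
  · rintro ⟨U, V, hU, hV, e, hx, hl⟩
    have hV' : V = ⊤ := by
      ext y
      exact ⟨fun _ => trivial, fun _ => Subsingleton.elim (α := PrimeSpectrum k) (p x) y ▸ e hx⟩
    subst hV'
    refine (stalk_ci_iff k p hU x hx).mpr ?_
    letI := (kMap k p U).hom.toAlgebra
    letI := ((Scheme.ΓSpecIso (CommRingCat.of k)).inv).hom.toAlgebra
    letI := (p.appLE ⊤ U e).hom.toAlgebra
    haveI : IsScalarTower k Γ(Spec (CommRingCat.of k), ⊤) Γ(X, U) := IsScalarTower.of_algebraMap_eq' rfl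
    refine isCIOver_atPrime_of_isLCIOver (LCI6.isLCIOver_iff_isLCI.mpr ?_) _
    exact LCI6.isLCI_comp (Cc := Γ(Spec (CommRingCat.of k), ⊤))
      ((LCI6.isSyntomic_iff.mp (RelGCIReg.syntHom_of_bijective _ bij)).2) hl

end GrothLib.CIField
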